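import Cfsg.Agent.LocalP.PClosed
import Cfsg.Agent.SmallGroups.OrderPSection
import Cfsg.Agent.SmallGroups.Basic

/-!
# The least order of a group which is not `p`-closed
-/

set_option autoImplicit false
set_option linter.style.haveILetI false
set_option linter.unusedSectionVars false

namespace Cfsg.Agent.LeastOrder

open Subgroup

/-- The simple case: degrees in the principal block of a group with a Sylow subgroup of order
`p`. -/
theorem bound_of_simple {G : Type} [Group G] [Finite G] [IsSimpleGroup G] {p : ℕ} [hp : Fact p.Prime]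
    (hG : ¬ IsMulCommutative G) (hdvd : p ∣ Nat.card G) :
    p * (p ^ 2 - 1) / 2 ≤ Nat.card G := by
  classical
  letI := Fintype.ofFinite G
  by_contra hlt
  rw [not_le] at hlt
  obtain ⟨P⟩ : Nonempty (Sylow p G) := inferInstance
  obtain ⟨k, hk⟩ := P.2.exists_card_eq
  have hk0 : k ≠ 0 := by
    rintro rfl
    have h := P.dvd_card_of_dvd_card hdvd
    rw [hk, pow_zero, Nat.dvd_one] at h
    exact hp.out.ne_one h
  obtain ⟨n, hn⟩ : ∃ n, Nat.card (Sylow p G) = n := ⟨_, rfl⟩
  have hn1 : 1 < n := hn ▸ SmallGroups.one_lt_card_sylow hG hdvd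
  have hnmod : n ≡ 1 [MOD p] := hn ▸ card_sylow_modEq_one p G
  obtain ⟨r, hr⟩ : ∃ r, n = 1 + p * r :=
    ⟨n / p, by
      have h : n % p = 1 := by rw [hnmod, Nat.mod_eq_of_lt hp.out.one_lt]
      have := Nat.div_add_mod n p
      omega⟩
  have hr1 : 1 ≤ r := Nat.one_le_iff_ne_zero.2 (by rintro rfl; omega)
  have hnp : p + 1 ≤ n := by
    have : p * 1 ≤ p * r := Nat.mul_le_mul_left p hr1
    omega
  set N := Subgroup.normalizer ((P : Subgroup G) : Set G) with hN
  have hcard : n * Nat.card N = Nat.card G := hn ▸ SmallGroups.card_sylow_mul_card_normalizer P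
  have h2 : 2 * Nat.card G < p * (p ^ 2 - 1) := by omega
  have hPN : Nat.card P ∣ Nat.card N := Subgroup.card_dvd_of_le le_normalizer
  have hsq : p ^ 2 - 1 = (p + 1) * (p - 1) := by rw [← Nat.sq_sub_sq p 1, one_pow]
  -- the Sylow subgroup has order `p`
  have hP : Nat.card P = p := by
    rcases eq_or_ne k 1 with rfl | hk1
    · rw [hk, pow_one]
    exfalso
    have h3 : p * p ≤ Nat.card N := by
      refine le_trans ?_ (Nat.le_of_dvd Nat.card_pos hPN)
      rw [hk, ← sq]
      exact Nat.pow_le_pow_right hp.out.pos (by omega)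
    have h4 : (p + 1) * (p * p) ≤ Nat.card G := hcard ▸ Nat.mul_le_mul hnp h3
    have h5 : p * (p ^ 2 - 1) ≤ (p + 1) * (p * p) := by
      rw [hsq, ← mul_assoc, mul_comm p (p + 1), mul_assoc]
      exact Nat.mul_le_mul_left _ (Nat.mul_le_mul_left _ (Nat.sub_le _ _))
    omega
  -- the parameters
  set C := Subgroup.centralizer ((P : Subgroup G) : Set G) with hC'
  have hPC : (P : Subgroup G) ≤ C := by
    intro a ha
    rw [hC', Subgroup.mem_centralizer_iff]
    intro b hb
    haveI : IsCyclic (P : Subgroup G) := isCyclic_of_prime_card hP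
    exact congrArg Subtype.val ((IsCyclic.commGroup (α := (P : Subgroup G))).mul_comm ⟨b, hb⟩ ⟨a, ha⟩)
  obtain ⟨c, hc⟩ : ∃ c, Nat.card C = p * c := hP ▸ Subgroup.card_dvd_of_le hPC
  have hCN : C ≤ N := fun a ha => Subgroup.centralizer_le_normalizer _ ha
  obtain ⟨e, he⟩ : ∃ e, C.relIndex N = e := ⟨_, rfl⟩
  have hNcard : Nat.card N = p * (e * c) := by
    have h := Subgroup.card_mul_index (C.subgroupOf N)
    rw [Nat.card_congr (Subgroup.subgroupOfEquivOfLe hCN).toEquiv, hc] at h
    rw [← h, ← he, Subgroup.relIndex]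
    ring
  have hec : 0 < e * c := by
    rcases Nat.eq_zero_or_pos (e * c) with h | h
    · rw [h, mul_zero] at hNcard
      exact absurd hNcard Nat.card_pos.ne'
    · exact h
  have hG' : Nat.card G = p * (e * c * n) := by rw [← hcard, hNcard]; ring
  have hsmall : 2 * (e * c * n) < (p + 1) * (p - 1) := by
    rw [hG', hsq, ← mul_assoc 2 p, mul_comm 2 p, mul_assoc] at h2
    exact Nat.lt_of_mul_lt_mul_left h2
  have hec' : 2 * (e * c) < p - 1 := by
    have h : 2 * (e * c) * (p + 1) < (p - 1) * (p + 1) := by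
      calc 2 * (e * c) * (p + 1) ≤ 2 * (e * c) * n := Nat.mul_le_mul_left _ hnp
        _ < _ := by rw [mul_assoc, mul_comm (p - 1)]; exact hsmall
    exact Nat.lt_of_mul_lt_mul_right h
  obtain ⟨x, hx, hx1⟩ : ∃ x, x ∈ (P : Subgroup G) ∧ x ≠ 1 := by
    by_contra h
    push Not at h
    have : (P : Subgroup G) = ⊥ := by rw [Subgroup.eq_bot_iff_forall]; exact h
    rw [this, Subgroup.card_bot] at hP
    exact hp.out.ne_one hP.symm
  obtain ⟨ε, d, L, hε, ⟨hd1, hddvd, hdmod⟩, hL, hlen, hsum, -, -⟩ :=
    SmallGroups.OrderP.exists_orderP_data P hP hx hx1 hc hG he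
  have hnmodZ : (p : ℤ) ∣ ((e * c * n : ℕ) : ℤ) - ((e * c : ℕ) : ℤ) :=
    ⟨(e * c * r : ℕ), by rw [hr]; push_cast; ring⟩
  -- all nonexceptional degrees are the number of Sylow subgroups
  have hz : ∀ z ∈ L, z.2 * (z.1 : ℤ) = (n : ℤ) := by
    intro z hz
    obtain ⟨hz1, hzd, hzmod, hδ⟩ := hL z hz
    obtain ⟨a, ha⟩ := hzmod
    have hcop : z.1.Coprime p := by
      refine (hp.out.coprime_iff_not_dvd.2 fun h => ?_).symm
      have h' : (p : ℤ) ∣ z.2 := by
        have := dvd_sub (Int.natCast_dvd_natCast.2 h) (Dvd.intro a ha.symm)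
        rwa [sub_sub_cancel] at this
      have h'' : (p : ℤ) ∣ 1 := by
        rcases hδ with e' | e' <;> rw [e'] at h'
        · exact h'
        · exact (dvd_neg.1 h')
      exact hp.out.ne_one (by
        have h3 : (p : ℕ) ∣ 1 := by exact_mod_cast h''
        exact Nat.dvd_one.1 h3)
    rw [hG'] at hzd
    obtain ⟨y, hy⟩ := hcop.dvd_of_dvd_mul_left hzd
    have hzlarge : p ≤ z.1 + 1 := by
      rcases lt_or_ge 0 a with ha0 | ha0
      · have : (p : ℤ) * 1 ≤ p * a := mul_le_mul_of_nonneg_left ha0 (by positivity)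
        omega
      · have : (p : ℤ) * a ≤ 0 := mul_nonpos_of_nonneg_of_nonpos (by positivity) ha0
        omega
    have hy2 : 2 * y < p + 1 := by
      have h : 2 * y * (p - 1) < (p + 1) * (p - 1) := by
        calc 2 * y * (p - 1) ≤ 2 * y * z.1 := Nat.mul_le_mul_left _ (by omega)
          _ = 2 * (e * c * n) := by rw [hy]; ring
          _ < _ := hsmall
      exact Nat.lt_of_mul_lt_mul_right h
    have hy0 : 0 < y := by
      rcases Nat.eq_zero_or_pos y with h | h
      · rw [h, mul_zero] at hy
        rw [hy] at hsmall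
        exact absurd hy (Nat.mul_pos hec (by omega)).ne'
      · exact h
    obtain ⟨b, hb⟩ : (p : ℤ) ∣ z.2 * (y : ℤ) - ((e * c : ℕ) : ℤ) := by
      have h1 : (p : ℤ) ∣ ((z.1 : ℤ) - z.2) * y := Dvd.dvd.mul_right (Dvd.intro a ha.symm) _
      have h3 := dvd_sub hnmodZ h1
      have e1 : ((e * c * n : ℕ) : ℤ) - ((e * c : ℕ) : ℤ) - ((z.1 : ℤ) - z.2) * y =
          z.2 * (y : ℤ) - ((e * c : ℕ) : ℤ) := by
        rw [hy]; push_cast; ring
      rwa [e1] at h3
    have hδ1 : z.2 = 1 ∧ y = e * c := by
      rcases hδ with e' | e' <;> rw [e'] at hb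
      · refine ⟨e', ?_⟩
        rcases lt_trichotomy b 0 with hb0 | hb0 | hb0
        · have : (p : ℤ) * b ≤ p * (-1) := mul_le_mul_of_nonneg_left (by omega) (by positivity)
          omega
        · subst hb0; omega
        · have : (p : ℤ) * 1 ≤ p * b := mul_le_mul_of_nonneg_left hb0 (by positivity)
          omega
      · exfalso
        rcases lt_trichotomy b 0 with hb0 | hb0 | hb0
        · have : (p : ℤ) * b ≤ p * (-1) := mul_le_mul_of_nonneg_left (by omega) (by positivity)
          omega
        · subst hb0; omega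
        · have : (p : ℤ) * 1 ≤ p * b := mul_le_mul_of_nonneg_left hb0 (by positivity)
          omega
    rw [hδ1.1, one_mul, Nat.cast_inj]
    rw [hδ1.2, mul_comm z.1] at hy
    exact (Nat.eq_of_mul_eq_mul_left hec hy).symm
  have hmap : (L.map fun z => z.2 * (z.1 : ℤ)).sum = (L.length : ℤ) * n := by
    rw [List.sum_eq_card_nsmul _ (n : ℤ) (fun x hx => by
      obtain ⟨z, hz', rfl⟩ := List.mem_map.1 hx
      exact hz z hz'), List.length_map, nsmul_eq_mul]
  rw [hmap] at hsum
  have hε1 : ε = 1 := by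
    rcases hε with h | h
    · exact h
    · exfalso
      have : (0 : ℤ) ≤ (L.length : ℤ) * n := by positivity
      rw [h] at hsum
      omega
  rw [hε1, one_mul] at hsum
  have hd : d = 1 + L.length * n := by exact_mod_cast hsum.symm
  have hlen0 : 0 < L.length := by
    rcases Nat.eq_zero_or_pos L.length with h | h
    · rw [h, zero_mul] at hd; omega
    · exact h
  have hdn : n < d := by
    have : 1 * n ≤ L.length * n := Nat.mul_le_mul_right n hlen0
    omega
  have hdp : d.Coprime p := by
    refine (hp.out.coprime_iff_not_dvd.2 fun h => ?_).symm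
    rw [hε1, one_mul] at hdmod
    have h' := dvd_sub (Int.natCast_dvd_natCast.2 h) hdmod
    rw [sub_sub_cancel, Int.natCast_dvd_natCast] at h'
    have hle := Nat.le_of_dvd (by omega) h'
    have : e ≤ e * c := Nat.le_mul_of_pos_right _ (Nat.pos_of_mul_pos_left hec)
    omega
  rw [hG'] at hddvd
  have hdn' : d.Coprime n := by
    rw [hd, Nat.coprime_add_mul_right_left]
    exact Nat.coprime_one_left n
  have := Nat.le_of_dvd hec (hdn'.dvd_of_dvd_mul_right (hdp.dvd_of_dvd_mul_left hddvd))
  omega

/-- A nontrivial coprime action of a `p`-element needs a prime power congruent to `1`. -/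
theorem exists_primePow_le {G : Type} [Group G] [Finite G] {p : ℕ} [hp : Fact p.Prime]
    (N : Subgroup G) [hN : N.Normal] (hpN : ¬ p ∣ Nat.card N) {x : G} {s : ℕ}
    (hx : x ^ p ^ s = 1) (hxN : ¬ N ≤ Subgroup.centralizer {x}) :
    ∃ k : ℕ, IsPrimePow k ∧ k % p = 1 ∧ k ≤ Nat.card N := by
  classical
  set X := Subgroup.zpowers x with hXdef
  have hX : IsPGroup p X := by
    rintro ⟨y, m, rfl⟩
    refine ⟨s, Subtype.ext ?_⟩
    show (x ^ m) ^ p ^ s = 1
    rw [← zpow_natCast (x ^ m), ← zpow_mul, mul_comm, zpow_mul, zpow_natCast, hx, one_zpow]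
  set A := N ⊓ Subgroup.centralizer {x} with hA
  have hAlt : A < N := lt_of_le_of_ne inf_le_left fun h => hxN (h ▸ inf_le_right)
  have hcardA : Nat.card A < Nat.card N := by
    by_contra h
    exact hAlt.ne (Subgroup.eq_of_le_of_card_ge hAlt.le (not_lt.1 h))
  obtain ⟨q, hq, hqA⟩ : ∃ q, q.Prime ∧
      (Nat.card A).factorization q < (Nat.card N).factorization q := by
    by_contra h
    push Not at h
    refine absurd (Nat.le_of_dvd Nat.card_pos ((Nat.factorization_prime_le_iff_dvd
      Nat.card_pos.ne' Nat.card_pos.ne').1 h)) (not_le.2 hcardA)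
  haveI := Fact.mk hq
  letI act : MulAction X (Sylow q N) := MulAction.compHom (Sylow q N)
    ((MulAut.conjNormal (H := N)).comp X.subtype)
  have hnd : ¬ p ∣ Nat.card (Sylow q N) := fun h => hpN
    (h.trans ((default : Sylow q N).card_dvd_index.trans
      (Subgroup.index_dvd_card _)))
  obtain ⟨Q, hQ⟩ := hX.nonempty_fixed_point_of_prime_not_dvd_card (Sylow q N) hnd
  set Q' : Subgroup G := (Q : Subgroup N).map N.subtype with hQ'
  have hQcard : Nat.card Q' = q ^ (Nat.card N).factorization q := by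
    rw [hQ', Subgroup.card_map_of_injective N.subtype_injective, Q.card_eq_multiplicity]
  have hinv : X ≤ Subgroup.normalizer (Q' : Set G) := by
    intro g hg
    rw [Subgroup.mem_normalizer_iff_map_conj_eq]
    have h1 : ((MulAut.conjNormal g : MulAut N) • Q : Sylow q N) = Q := hQ ⟨g, hg⟩
    have h2 : (Q : Subgroup N).map (MulAut.conjNormal g : MulAut N).toMonoidHom = Q := by
      conv_rhs => rw [← h1]
      rfl
    rw [hQ', Subgroup.map_map]
    conv_rhs => rw [← h2, Subgroup.map_map]
    rfl
  letI act2 : MulAction X Q' := MulAction.compHom Q'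
    (Q'.normalizerMonoidHom.comp (Subgroup.inclusion hinv))
  have hfix : ∀ a : Q', a ∈ MulAction.fixedPoints X Q' ↔ (a : G) ∈ Subgroup.centralizer {x} := by
    intro a
    rw [Subgroup.mem_centralizer_singleton_iff]
    constructor
    · intro h
      have h1 := congrArg Subtype.val (h ⟨x, Subgroup.mem_zpowers x⟩)
      change x * (a : G) * x⁻¹ = (a : G) at h1
      exact (eq_mul_inv_iff_mul_eq.1 h1.symm)
    · rintro h ⟨g, m, rfl⟩
      apply Subtype.ext
      change x ^ m * (a : G) * (x ^ m)⁻¹ = (a : G)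
      rw [(Commute.zpow_left (show Commute x (a : G) from h.symm) m).eq, mul_inv_cancel_right]
  have hmod := hX.card_modEq_card_fixedPoints Q'
  have hfc : Nat.card (MulAction.fixedPoints X Q') = Nat.card ↥(Q' ⊓ Subgroup.centralizer {x}) :=
    Nat.card_congr ⟨fun a => ⟨(a.1 : G), a.1.2, (hfix a.1).1 a.2⟩,
      fun b => ⟨⟨b.1, b.2.1⟩, (hfix _).2 b.2.2⟩, fun _ => rfl, fun _ => rfl⟩
  rw [hfc, hQcard] at hmod
  obtain ⟨b, -, hb⟩ := (Nat.dvd_prime_pow hq).1
    (hQcard ▸ Subgroup.card_dvd_of_le (inf_le_left : Q' ⊓ Subgroup.centralizer {x} ≤ Q'))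
  rw [hb] at hmod
  have hble : b < (Nat.card N).factorization q := by
    refine lt_of_le_of_lt ?_ hqA
    rw [← hq.pow_dvd_iff_le_factorization Nat.card_pos.ne', ← hb]
    exact Subgroup.card_dvd_of_le (inf_le_inf_right _ (Subgroup.map_subtype_le _))
  obtain ⟨d, hd, hd0⟩ : ∃ d, (Nat.card N).factorization q = b + d ∧ 0 < d :=
    ⟨(Nat.card N).factorization q - b, by omega, by omega⟩
  have hqp : q ≠ p := by
    rintro rfl
    exact hpN (Nat.dvd_of_factorization_pos (show (Nat.card N).factorization q ≠ 0 by omega))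
  refine ⟨q ^ d, hq.isPrimePow.pow hd0.ne', ?_, ?_⟩
  · have h1 : q ^ b * q ^ d ≡ q ^ b * 1 [MOD p] := by rw [mul_one, ← pow_add, ← hd]; exact hmod
    have hcop : Nat.Coprime p (q ^ b) :=
      Nat.Coprime.pow_right b ((Nat.coprime_primes hp.out hq).2 (Ne.symm hqp))
    have h2 := Nat.ModEq.cancel_left_of_coprime hcop h1
    rw [h2, Nat.mod_eq_of_lt hp.out.one_lt]
  · refine (Nat.pow_le_pow_right hq.pos (show d ≤ (Nat.card N).factorization q by omega)).trans
      (Nat.le_of_dvd Nat.card_pos (Nat.ordProj_dvd _ _))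

theorem bound {p : ℕ} [hp : Fact p.Prime] {m : ℕ}
    (hleast : ∀ k : ℕ, IsPrimePow k → k % p = 1 → m ≤ k) :
    ∀ (n : ℕ) (H : Type) [Group H] [Finite H], Nat.card H = n → ¬ Cfsg.IsPClosed p H →
      min (p * m) (p * (p ^ 2 - 1) / 2) ≤ n := by
  intro n
  induction n using Nat.strong_induction_on with
  | _ n ih =>
  intro H _ _ hn hH
  have hnt : Nontrivial H := by
    by_contra h
    rw [not_nontrivial_iff_subsingleton] at h
    exact hH fun P => by
      rw [Subsingleton.elim (P : Subgroup H) ⊥]; infer_instance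
  by_cases hsimple : IsSimpleGroup H
  · have hcomm : ¬ IsMulCommutative H := fun h => hH fun P =>
      ⟨fun a ha g => by rwa [show g * a = a * g from h.is_comm.comm g a, mul_inv_cancel_right]⟩
    have hdvd : p ∣ Nat.card H := by
      by_contra h
      refine hH fun P => ?_
      obtain ⟨k, hk⟩ := P.2.exists_card_eq
      cases k with
      | zero => rw [Subgroup.eq_bot_of_card_eq _ hk]; infer_instance
      | succ k => exact absurd (((dvd_pow_self p k.succ_ne_zero).trans (dvd_of_eq hk.symm)).trans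
          (Subgroup.card_subgroup_dvd_card _)) h
    exact hn ▸ (min_le_right _ _).trans (bound_of_simple hcomm hdvd)
  obtain ⟨N, hNn, hNbot, hNtop⟩ : ∃ N : Subgroup H, N.Normal ∧ N ≠ ⊥ ∧ N ≠ ⊤ := by
    by_contra h
    push Not at h
    exact hsimple ⟨fun N hN => or_iff_not_imp_left.2 (h N hN)⟩
  have hNlt : Nat.card N < n := by
    rw [← hn]
    exact lt_of_le_of_ne (Subgroup.card_le_card_group N)
      fun h => hNtop (Subgroup.card_eq_iff_eq_top _ |>.1 h)
  by_cases hNc : Cfsg.IsPClosed p N
  swap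
  · exact (ih _ hNlt N rfl hNc).trans hNlt.le
  have hquot : ∀ (M : Subgroup H) [M.Normal], M ≠ ⊥ → ¬ Cfsg.IsPClosed p (H ⧸ M) →
      min (p * m) (p * (p ^ 2 - 1) / 2) ≤ n := by
    intro M _ hMb hq
    have hlt : Nat.card (H ⧸ M) < n := by
      rw [← hn, ← Subgroup.index, ← M.card_mul_index]
      exact lt_mul_of_one_lt_left (Nat.pos_of_ne_zero Subgroup.index_ne_zero_of_finite)
        ((Subgroup.one_lt_card_iff_ne_bot M).2 hMb)
    exact (ih _ hlt _ rfl hq).trans hlt.le
  by_cases hNq : Cfsg.IsPClosed p (H ⧸ N)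
  swap
  · exact hquot N hNbot hNq
  by_cases hpN : p ∣ Nat.card N
  · -- a nontrivial normal p-subgroup
    obtain ⟨T⟩ : Nonempty (Sylow p N) := inferInstance
    haveI : (T : Subgroup N).Normal := hNc T
    haveI : (T : Subgroup N).Characteristic := T.characteristic_of_normal (hNc T)
    set R := (T : Subgroup N).map N.subtype with hR
    have hRn : R.Normal := inferInstance
    have hRp : IsPGroup p R := T.2.map _
    have hRb : R ≠ ⊥ := by
      rw [hR, Ne, Subgroup.map_eq_bot_iff_of_injective _ N.subtype_injective]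
      exact T.ne_bot_of_dvd_card hpN
    by_cases hq : Cfsg.IsPClosed p (H ⧸ R)
    · exfalso
      refine hH fun P => ?_
      have hle : R ≤ (P : Subgroup H) :=
        (Cores.le_pCore hRn hRp).trans (Cores.pCore_le_sylow P)
      have h1 := hq (P.mapSurjective (QuotientGroup.mk'_surjective R))
      have h2 : (P : Subgroup H) = ((P : Subgroup H).map (QuotientGroup.mk' R)).comap
          (QuotientGroup.mk' R) := by
        rw [Subgroup.comap_map_eq, QuotientGroup.ker_mk', sup_eq_left.2 hle]
      rw [h2]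
      exact Subgroup.Normal.comap h1 _
    · exact hquot R hRb hq
  · -- a Sylow subgroup acts nontrivially on `N`
    obtain ⟨x, ⟨s, hs⟩, hxN⟩ :
        ∃ x : H, (∃ s : ℕ, x ^ p ^ s = 1) ∧ ¬ N ≤ Subgroup.centralizer {x} := by
      by_contra hcon
      push Not at hcon
      refine hH fun P => ?_
      have hcomm : ∀ a ∈ (P : Subgroup H), ∀ g ∈ N, g * a = a * g := by
        intro a ha g hg
        obtain ⟨s, hs⟩ := P.2 ⟨a, ha⟩
        have := hcon a ⟨s, congrArg Subtype.val hs⟩ hg
        exact Subgroup.mem_centralizer_singleton_iff.1 this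
      have hQn : ((P : Subgroup H).map (QuotientGroup.mk' N)).Normal :=
        hNq (P.mapSurjective (QuotientGroup.mk'_surjective N))
      set K := (P : Subgroup H) ⊔ N with hK
      have hKn : K.Normal := by
        have h2 : K = ((P : Subgroup H).map (QuotientGroup.mk' N)).comap (QuotientGroup.mk' N) := by
          rw [Subgroup.comap_map_eq, QuotientGroup.ker_mk']
        rw [h2]
        exact hQn.comap _
      haveI := hKn
      have hPK : ((P.subtype (le_sup_left : (P : Subgroup H) ≤ K) : Sylow p K) : Subgroup K).Normal := by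
        rw [Sylow.coe_subtype]
        rw [Subgroup.normal_subgroupOf_iff_le_normalizer le_sup_left, sup_le_iff]
        refine ⟨Subgroup.le_normalizer, fun g hg => ?_⟩
        rw [Subgroup.mem_normalizer_iff]
        intro a
        constructor
        · intro ha
          rw [hcomm a ha g hg, mul_inv_cancel_right]
          exact ha
        · intro ha
          have h1 := hcomm _ ha g hg
          have h2 : g * a * g⁻¹ = a := by
            have h3 : a = g⁻¹ * (g * a * g⁻¹) * g := by group
            conv_rhs => rw [h3, mul_assoc, ← h1]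
            group
          rwa [h2] at ha
      haveI := Sylow.characteristic_of_normal _ hPK
      have := ConjAct.normal_of_characteristic_of_normal
        (K := ((P.subtype (le_sup_left : (P : Subgroup H) ≤ K) : Sylow p K) : Subgroup K))
      rwa [Sylow.coe_subtype, Subgroup.map_subgroupOf_eq_of_le le_sup_left] at this
    obtain ⟨k, hk, hkmod, hkle⟩ := exists_primePow_le N hpN hs hxN
    have hpidx : p ∣ N.index := by
      by_contra h
      have hnd : ¬ p ∣ Nat.card H := by
        rw [← N.card_mul_index]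
        exact fun h' => (hp.out.dvd_mul.1 h').elim hpN h
      obtain ⟨s', -, hs'⟩ := (Nat.dvd_prime_pow hp.out).1 (orderOf_dvd_of_pow_eq_one hs)
      cases s' with
      | zero =>
        apply hxN
        rw [pow_zero, orderOf_eq_one_iff] at hs'
        intro g _
        rw [hs', Subgroup.mem_centralizer_singleton_iff, one_mul, mul_one]
      | succ s' =>
        exact hnd (((dvd_pow_self p s'.succ_ne_zero).trans (dvd_of_eq hs'.symm)).trans
          (orderOf_dvd_natCard x))
    calc min (p * m) (p * (p ^ 2 - 1) / 2) ≤ p * m := min_le_left _ _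
      _ ≤ N.index * Nat.card N := Nat.mul_le_mul
          (Nat.le_of_dvd (Nat.pos_of_ne_zero Subgroup.index_ne_zero_of_finite) hpidx)
          ((hleast k hk hkmod).trans hkle)
      _ = n := by rw [mul_comm, N.card_mul_index, hn]

end Cfsg.Agent.LeastOrder
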