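import Cfsg.Agent.LocalP.PClosed
import Cfsg.Agent.Linear.Transvection
import Cfsg.Agent.Linear.SmallIso
import Mathlib.FieldTheory.Finite.GaloisField

/-!
# Groups of least order which are not `p`-closed
-/

set_option autoImplicit false
set_option linter.style.haveILetI false

namespace Cfsg.Agent.LeastOrder

open Subgroup
open scoped Matrix

/-- Translations of a field by a `p`-th root of unity: a group of order `p * m`. -/
theorem exists_affine {p : ℕ} [hp : Fact p.Prime] {m : ℕ} (hm : IsPrimePow m) (hm1 : m % p = 1) :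
    ∃ (H : Type) (_ : Group H) (_ : Finite H), Nat.card H = p * m ∧ ¬ Cfsg.IsPClosed p H := by
  obtain ⟨r, k, hr, hk, rfl⟩ := hm
  haveI := Fact.mk hr.nat_prime
  classical
  let F := GaloisField r k
  letI := Fintype.ofFinite F
  have hF : Nat.card F = r ^ k := GaloisField.card r k hk.ne'
  have hdvd : p ∣ Fintype.card Fˣ := by
    rw [Fintype.card_units, ← Nat.card_eq_fintype_card, hF]
    refine ⟨r ^ k / p, ?_⟩
    have := Nat.div_add_mod (r ^ k) p
    omega
  obtain ⟨ζ, hζ⟩ := exists_prime_orderOf_dvd_card p hdvd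
  let φ : Subgroup.zpowers ζ →* MulAut (Multiplicative F) :=
    { toFun := fun g => AddEquiv.toMultiplicative (DistribMulAction.toAddAut Fˣ F g.1)
      map_one' := by ext a; simp
      map_mul' := fun g h => by ext a; simp [mul_smul] }
  let H := Multiplicative F ⋊[φ] Subgroup.zpowers ζ
  haveI : Finite H := Finite.of_equiv _ SemidirectProduct.equivProd.symm
  refine ⟨H, inferInstance, inferInstance, ?_, fun hc => ?_⟩
  · rw [SemidirectProduct.card, Nat.card_zpowers, hζ,
      Nat.card_congr (Multiplicative.toAdd (α := F)), hF, mul_comm]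
  · set z : H := SemidirectProduct.inr ⟨ζ, Subgroup.mem_zpowers ζ⟩ with hz
    have hzo : z ^ p ^ 1 = 1 := by
      rw [pow_one, hz, ← map_pow]
      rw [show (⟨ζ, Subgroup.mem_zpowers ζ⟩ : Subgroup.zpowers ζ) ^ p = 1 from
        Subtype.ext (by rw [Subgroup.coe_pow, ← hζ, pow_orderOf_eq_one]; rfl), map_one]
    have hmem := LocalP.isPClosed_iff.1 hc z ⟨1, hzo⟩
    set w : H := SemidirectProduct.inl (Multiplicative.ofAdd (1 : F)) with hw
    -- the commutator lies in the `p`-core and in the normal kernel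
    have hcomm : w * z * w⁻¹ * z⁻¹ ∈ Cfsg.pCore p H :=
      mul_mem ((inferInstance : (Cfsg.pCore p H).Normal).conj_mem z hmem w) (inv_mem hmem)
    have hval : w * z * w⁻¹ * z⁻¹ =
        SemidirectProduct.inl (Multiplicative.ofAdd (1 - (ζ : F))) := by
      rw [mul_assoc w z w⁻¹, mul_assoc w, hw, hz,
        ← map_inv SemidirectProduct.inl (Multiplicative.ofAdd (1 : F) : Multiplicative F),
        ← map_inv SemidirectProduct.inr (⟨ζ, Subgroup.mem_zpowers ζ⟩ : Subgroup.zpowers ζ),
        ← SemidirectProduct.inl_aut, ← map_mul]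
      congr 1
      show Multiplicative.ofAdd ((1 : F) + (ζ : Fˣ) • (-(1 : F))) = _
      congr 1
      rw [Units.smul_def, smul_eq_mul]
      ring
    rw [hval] at hcomm
    obtain ⟨j, hj⟩ := Cores.pCore_isPGroup ⟨_, hcomm⟩
    have hj' : (SemidirectProduct.inl (Multiplicative.ofAdd (1 - (ζ : F))) : H) ^ p ^ j = 1 :=
      congrArg Subtype.val hj
    rw [← map_pow, ← ofAdd_nsmul, ← map_one (SemidirectProduct.inl (φ := φ))] at hj'
    have h0 : (p ^ j) • (1 - (ζ : F)) = 0 := Multiplicative.ofAdd.injective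
      (SemidirectProduct.inl_injective hj')
    rw [nsmul_eq_mul, Nat.cast_pow] at h0
    rcases mul_eq_zero.1 h0 with h | h
    · haveI : CharP F r := inferInstance
      have h' := (CharP.cast_eq_zero_iff F r p).1 (pow_eq_zero_iff'.1 h).1
      have : r = p := (Nat.prime_dvd_prime_iff_eq hr.nat_prime hp.out).1 h'
      subst this
      rw [Nat.pow_mod, Nat.mod_self, zero_pow hk.ne', Nat.zero_mod] at hm1
      exact zero_ne_one hm1
    · have : ζ = 1 := Units.ext (sub_eq_zero.1 h).symm
      rw [this, orderOf_one] at hζ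
      exact hp.out.ne_one hζ.symm

/-- `PSL(2, p)`. -/
theorem exists_psl {p : ℕ} [hp : Fact p.Prime] (h5 : 5 ≤ p) :
    ∃ (H : Type) (_ : Group H) (_ : Finite H),
      Nat.card H = p * (p ^ 2 - 1) / 2 ∧ ¬ Cfsg.IsPClosed p H := by
  classical
  let H := Matrix.ProjectiveSpecialLinearGroup (Fin 2) (ZMod p)
  have hodd : Odd (Fintype.card (ZMod p)) := by
    rw [ZMod.card]; exact hp.out.odd_of_ne_two (by omega)
  have hcard := Linear.card_PSL_two_of_odd hodd
  rw [ZMod.card] at hcard
  have hcard' : Nat.card H = p * (p ^ 2 - 1) / 2 := by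
    rw [show p ^ 2 - 1 = (p - 1) * (p + 1) by rw [mul_comm, ← Nat.sq_sub_sq p 1, one_pow],
      ← mul_assoc, ← hcard, Nat.mul_div_cancel_left _ two_pos]
  refine ⟨H, inferInstance, inferInstance, hcard', fun hc => ?_⟩
  haveI : IsSimpleGroup H := Linear.isSimpleGroup_PSL_fin 2 le_rfl fun _ => by
    rw [Nat.card_zmod]; omega
  obtain ⟨P⟩ : Nonempty (Sylow p H) := inferInstance
  have h1 : 2 * Nat.card H = p * ((p - 1) * (p + 1)) := by rw [hcard, mul_assoc]
  have hpd : p ∣ Nat.card H :=
    ((Nat.coprime_primes hp.out Nat.prime_two).2 (by omega)).dvd_of_dvd_mul_left (Dvd.intro _ h1.symm)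
  rcases (hc P).eq_bot_or_eq_top with h | h
  · exact P.ne_bot_of_dvd_card hpd h
  · obtain ⟨j, hj⟩ := P.2.exists_card_eq
    rw [h, Subgroup.card_top] at hj
    rw [hj] at h1
    cases j with
    | zero => rw [pow_zero, mul_one] at h1; exact absurd (Dvd.intro _ h1.symm) (Nat.not_dvd_of_pos_of_lt two_pos (by omega))
    | succ j =>
      rw [pow_succ, ← mul_assoc, mul_comm _ p] at h1
      have h2 : 2 * p ^ j = (p - 1) * (p + 1) := Nat.eq_of_mul_eq_mul_left hp.out.pos h1
      cases j with
      | zero =>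
        rw [pow_zero, mul_one] at h2
        have : 4 * 6 ≤ (p - 1) * (p + 1) := Nat.mul_le_mul (by omega) (by omega)
        omega
      | succ j =>
        have hdiv : p ∣ (p - 1) * (p + 1) := h2 ▸ (dvd_pow_self p j.succ_ne_zero).mul_left 2
        rcases hp.out.dvd_mul.1 hdiv with h | h
        · have := Nat.le_of_dvd (by omega) h; omega
        · rw [Nat.dvd_add_self_left] at h; exact hp.out.not_dvd_one h

end Cfsg.Agent.LeastOrder
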